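import Mathlib
/-!
Global functions of a product with an affine scheme over a field, for a quasi-compact scheme
(no separation hypothesis).
-/

set_option autoImplicit false
set_option backward.isDefEq.respectTransparency false
set_option backward.isDefEq.respectTransparency.types false

universe u v

open CategoryTheory CategoryTheory.Limits AlgebraicGeometry TensorProduct

noncomputable section

namespace Groth.Agent.GammaBCLib

theorem eq_zero_of_forall_rTensor_eq_zero {k A D : Type*} [CommRing k] [AddCommGroup A] [Module k A]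
    [AddCommGroup D] [Module k D] [Module.Free k D] {ι : Type*} {B : ι → Type*} [∀ i, AddCommGroup (B i)]
    [∀ i, Module k (B i)] (ρ : ∀ i, A →ₗ[k] B i) (hinj : ∀ a, (∀ i, ρ i a = 0) → a = 0)
    (x : A ⊗[k] D) (h : ∀ i, LinearMap.rTensor D (ρ i) x = 0) : x = 0 := by
  classical
  let b := Module.Free.chooseBasis k D
  apply (TensorProduct.equivFinsuppOfBasisRight b).injective
  rw [map_zero]
  refine Finsupp.ext fun j => hinj _ fun i => ?_
  have key : ∀ y : A ⊗[k] D, ρ i (TensorProduct.equivFinsuppOfBasisRight b y j) =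
      TensorProduct.equivFinsuppOfBasisRight b (LinearMap.rTensor D (ρ i) y) j := by
    intro y
    induction y using TensorProduct.induction_on with
    | zero => simp
    | tmul a d => simp [TensorProduct.equivFinsuppOfBasisRight_apply_tmul_apply]
    | add y z hy hz => simp only [map_add, Finsupp.add_apply, hy, hz]
  rw [key, h]
  simp

variable {X Y S T : Scheme.{u}} {f : T ⟶ S} {g : Y ⟶ X} {iX : X ⟶ S} {iY : Y ⟶ T}

/-- Injectivity over an arbitrary open of `X`. -/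
theorem mono_pushoutSection_of_isField (H : IsPullback g iY iX f) [IsAffine S] [IsAffine T]
    (hS : IsField Γ(S, ⊤)) (W : X.Opens) {UY : Y.Opens} (hUY : UY = g ⁻¹ᵁ W ⊓ iY ⁻¹ᵁ ⊤) :
    Mono (pushoutSection H (show (⊤ : T.Opens) ≤ f ⁻¹ᵁ ⊤ from le_top) (show W ≤ iX ⁻¹ᵁ ⊤ from le_top) hUY) := by
  subst hUY
  refine ConcreteCategory.mono_of_injective _ ?_
  letI := hS.toField
  algebraize [(iX.appLE ⊤ W le_top).hom, (f.appLE ⊤ ⊤ le_top).hom]
  haveI : Module.Free Γ(S, ⊤) Γ(T, ⊤) := Module.Free.of_divisionRing _ _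
  refine (injective_iff_map_eq_zero _).2 fun z hz => ?_
  let eW := (CommRingCat.isPushout_tensorProduct Γ(S, ⊤) Γ(X, W) Γ(T, ⊤)).isoPushout
  suffices h0 : eW.inv z = 0 by
    have h1 : eW.hom (eW.inv z) = z := by rw [← CommRingCat.comp_apply, Iso.inv_hom_id]; rfl
    rw [← h1, h0, map_zero]
  let ι := { V : X.Opens // IsAffineOpen V ∧ V ≤ W }
  letI (V : ι) : Algebra Γ(S, ⊤) Γ(X, V.1) := (iX.appLE ⊤ V.1 le_top).hom.toAlgebra
  let ρ (V : ι) : Γ(X, W) →ₐ[Γ(S, ⊤)] Γ(X, V.1) :=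
    ⟨(X.presheaf.map (homOfLE V.2.2).op).hom, fun r => by
      show (iX.appLE ⊤ W le_top ≫ X.presheaf.map (homOfLE V.2.2).op) r = iX.appLE ⊤ V.1 le_top r
      rw [Scheme.Hom.appLE_map]⟩
  refine eq_zero_of_forall_rTensor_eq_zero (fun V => (ρ V).toLinearMap) (fun a ha => ?_) _ fun V => ?_
  · refine X.IsSheaf.section_ext fun x hx => ?_
    obtain ⟨V, hV, hxV, hVW⟩ := exists_isAffineOpen_mem_and_subset hx
    exact ⟨V, hVW, hxV, (ha ⟨V, hV, hVW⟩).trans (map_zero _).symm⟩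
  let eV := (CommRingCat.isPushout_tensorProduct Γ(S, ⊤) Γ(X, V.1) Γ(T, ⊤)).isoPushout
  let m : CommRingCat.of (Γ(X, W) ⊗[Γ(S, ⊤)] Γ(T, ⊤)) ⟶ CommRingCat.of (Γ(X, V.1) ⊗[Γ(S, ⊤)] Γ(T, ⊤)) :=
    CommRingCat.ofHom (Algebra.TensorProduct.map (ρ V) (AlgHom.id Γ(S, ⊤) Γ(T, ⊤))).toRingHom
  let pV := pushoutSection H (show (⊤ : T.Opens) ≤ f ⁻¹ᵁ ⊤ from le_top)
    (show V.1 ≤ iX ⁻¹ᵁ ⊤ from le_top) (rfl : g ⁻¹ᵁ V.1 ⊓ iY ⁻¹ᵁ ⊤ = _)
  let pW := pushoutSection H (show (⊤ : T.Opens) ≤ f ⁻¹ᵁ ⊤ from le_top)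
    (show W ≤ iX ⁻¹ᵁ ⊤ from le_top) (rfl : g ⁻¹ᵁ W ⊓ iY ⁻¹ᵁ ⊤ = _)
  have hle : g ⁻¹ᵁ V.1 ⊓ iY ⁻¹ᵁ ⊤ ≤ g ⁻¹ᵁ W ⊓ iY ⁻¹ᵁ ⊤ := inf_le_inf_right _ (g.preimage_mono V.2.2)
  have hsq : m ≫ eV.hom ≫ pV = eW.hom ≫ pW ≫ Y.presheaf.map (homOfLE hle).op := by
    refine (CommRingCat.isPushout_tensorProduct Γ(S, ⊤) Γ(X, W) Γ(T, ⊤)).hom_ext ?_ ?_
    · have h1 : CommRingCat.ofHom Algebra.TensorProduct.includeLeftRingHom ≫ m =
          X.presheaf.map (homOfLE V.2.2).op ≫ CommRingCat.ofHom Algebra.TensorProduct.includeLeftRingHom := by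
        ext a
        simp [m, ρ]
      rw [reassoc_of% h1, (CommRingCat.isPushout_tensorProduct Γ(S, ⊤) Γ(X, V.1) Γ(T, ⊤)).inl_isoPushout_hom_assoc,
        (CommRingCat.isPushout_tensorProduct Γ(S, ⊤) Γ(X, W) Γ(T, ⊤)).inl_isoPushout_hom_assoc]
      show _ ≫ pushout.inl (iX.appLE ⊤ V.1 _) (f.appLE ⊤ ⊤ _) ≫ pV =
        pushout.inl (iX.appLE ⊤ W _) (f.appLE ⊤ ⊤ _) ≫ pW ≫ _
      rw [pushout.inl_desc, pushout.inl_desc_assoc, Scheme.Hom.appLE_map, Scheme.Hom.map_appLE]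
    · have h1 : CommRingCat.ofHom Algebra.TensorProduct.includeRight.toRingHom ≫ m =
          CommRingCat.ofHom Algebra.TensorProduct.includeRight.toRingHom := by
        ext a
        simp [m]
      rw [reassoc_of% h1, (CommRingCat.isPushout_tensorProduct Γ(S, ⊤) Γ(X, V.1) Γ(T, ⊤)).inr_isoPushout_hom_assoc,
        (CommRingCat.isPushout_tensorProduct Γ(S, ⊤) Γ(X, W) Γ(T, ⊤)).inr_isoPushout_hom_assoc]
      show pushout.inr (iX.appLE ⊤ V.1 _) (f.appLE ⊤ ⊤ _) ≫ pV =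
        pushout.inr (iX.appLE ⊤ W _) (f.appLE ⊤ ⊤ _) ≫ pW ≫ _
      rw [pushout.inr_desc, pushout.inr_desc_assoc, Scheme.Hom.appLE_map]
  haveI : IsIso pV := isIso_pushoutSection_of_isAffineOpen H _ _ _ (isAffineOpen_top S) (isAffineOpen_top T) V.2.1
  have h2 : (eV.hom ≫ pV) (m (eW.inv z)) = 0 := by
    rw [← CommRingCat.comp_apply, hsq, CommRingCat.comp_apply, CommRingCat.comp_apply,
      ← CommRingCat.comp_apply eW.inv eW.hom, Iso.inv_hom_id]
    exact (congrArg _ hz).trans (map_zero _)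
  have h3 : m (eW.inv z) = 0 :=
    (ConcreteCategory.bijective_of_isIso (eV.hom ≫ pV)).1 (h2.trans (map_zero _).symm)
  exact h3

/-- The functions on a product of a quasi-compact scheme and an affine one over a field. -/
theorem isPushout_appTop_of_isField (H : IsPullback g iY iX f) [IsAffine S] [IsAffine T]
    (hS : IsField Γ(S, ⊤)) [CompactSpace X] :
    IsPushout iX.appTop f.appTop g.appTop iY.appTop := by
  have hflat : (f.appLE ⊤ ⊤ le_top).hom.Flat := by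
    letI := hS.toField
    algebraize [(f.appLE ⊤ ⊤ le_top).hom]
    haveI : Module.Free Γ(S, ⊤) Γ(T, ⊤) := Module.Free.of_divisionRing _ _
    exact Module.Flat.of_free
  let 𝒰 := X.affineCover.finiteSubcover
  haveI h𝒰 : ∀ i, IsAffine (𝒰.X i) := fun i => Scheme.isAffine_affineCover X _
  have h := isIso_pushoutSection_of_iSup_eq H (US := ⊤) (UT := ⊤) (UX := ⊤) le_top le_top
    (show (⊤ : Y.Opens) = g ⁻¹ᵁ ⊤ ⊓ iY ⁻¹ᵁ ⊤ by simp) (fun i => (𝒰.f i).opensRange)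
    𝒰.iSup_opensRange
    (fun i => isIso_pushoutSection_of_isAffineOpen H _ _ _ (isAffineOpen_top S) (isAffineOpen_top T)
      (isAffineOpen_opensRange _))
    (fun i j => mono_pushoutSection_of_isField H hS _ rfl) hflat
  rw [isIso_pushoutSection_iff] at h
  simp only [Scheme.Hom.appLE, homOfLE_refl, op_id] at h
  erw [CategoryTheory.Functor.map_id, CategoryTheory.Functor.map_id, CategoryTheory.Functor.map_id] at h
  simp only [Category.comp_id] at h
  exact h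

/-- Precomposition with a map inducing an isomorphism on global functions, into an affine scheme. -/
theorem existsUnique_fac_of_isIso_appTop {Y Y₀ Z : Scheme.{u}} [IsAffine Z] [IsAffine Y₀] (c : Y ⟶ Y₀)
    [IsIso c.appTop] (φ : Y ⟶ Z) : ∃! ψ : Y₀ ⟶ Z, c ≫ ψ = φ := by
  refine ⟨Y₀.toSpecΓ ≫ Spec.map (φ.appTop ≫ inv c.appTop) ≫ inv Z.toSpecΓ, ?_, fun ψ hψ => ?_⟩
  · show c ≫ _ = φ
    rw [reassoc_of% (Scheme.toSpecΓ_naturality c), ← Spec.map_comp_assoc, Category.assoc, IsIso.inv_hom_id,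
      Category.comp_id, ← reassoc_of% (Scheme.toSpecΓ_naturality φ), IsIso.hom_inv_id, Category.comp_id]
  · refine ext_of_isAffine ?_
    have h := congrArg (fun q => Scheme.Hom.appTop q) hψ
    simp only [Scheme.Hom.comp_appTop] at h
    rw [← cancel_mono c.appTop, h]
    have h2 : c ≫ Y₀.toSpecΓ ≫ Spec.map (φ.appTop ≫ inv c.appTop) ≫ inv Z.toSpecΓ = φ := by
      rw [reassoc_of% (Scheme.toSpecΓ_naturality c), ← Spec.map_comp_assoc, Category.assoc, IsIso.inv_hom_id,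
        Category.comp_id, ← reassoc_of% (Scheme.toSpecΓ_naturality φ), IsIso.hom_inv_id, Category.comp_id]
    conv_lhs => rw [← h2]
    rw [Scheme.Hom.comp_appTop]

end Groth.Agent.GammaBCLib
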